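import Cfsg.Agent.H588.EPU.Asm
import Cfsg.Agent.Lib.Cores
import Cfsg.Agent.ClassicalGeometry.PSUAutBasic
import Cfsg.Agent.ClassicalGeometry.PSUAutCount
import Cfsg.Agent.ClassicalGeometry.HermOrtho

/-!
# S3499, unitary socles: tools for decomposition stabilisers (helper380)

* `exists_fit` : the Fitting subgroup of `A` in the `T`-form: an abelian normal subgroup `N ≠ 1` of `A` lies in an
  elementary abelian normal subgroup `K` of `A` with `C_A(K) = K` and `K ∩ A^x = 1` for all `x ∉ A`;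
* `PJ Q n F q` : a surjection `SU n F q → Q` with kernel the scalars; `PJ.ofModel`, `mem_iff`, `comap_eq`.
-/

set_option autoImplicit false
set_option linter.unusedSectionVars false

namespace Cfsg.Agent.H380.EPU

open Subgroup Matrix Cfsg Cfsg.Geo Cfsg.Agent.H284 Cfsg.Agent.H419.EP Cfsg.Agent.LieClassical.HermBasic
  Cfsg.Agent.LieClassical.HermSiegel Cfsg.Agent.ClassicalGeometry.PSUAutBasic
open scoped MatrixGroups

section fit

variable {Q : Type*} [Group Q] {A : Subgroup Q} {Γ : Subgroup (MulAut Q)} (h : EPT A Γ)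

/-- the restriction of `σ ∈ Γ` to `A` -/
def resA (h : EPT A Γ) {σ : MulAut Q} (hσ : σ ∈ Γ) : A ≃* A where
  toFun a := ⟨σ a, (h.inv σ hσ a).2 a.2⟩
  invFun a := ⟨σ⁻¹ a, (h.inv σ⁻¹ (inv_mem hσ) a).2 a.2⟩
  left_inv a := Subtype.ext (MulAut.inv_apply_self _ _ _)
  right_inv a := Subtype.ext (MulAut.apply_inv_self _ _ _)
  map_mul' a b := Subtype.ext (map_mul σ _ _)

theorem char_inv (h : EPT A Γ) {L : Subgroup A} (hL : L.Characteristic) :
    ∀ σ ∈ Γ, ∀ k ∈ L.map A.subtype, σ k ∈ L.map A.subtype := by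
  rintro σ hσ _ ⟨k, hk, rfl⟩
  have h1 := Subgroup.characteristic_iff_map_eq.1 hL (resA h hσ)
  refine ⟨resA h hσ k, ?_, rfl⟩
  show resA h hσ k ∈ L
  rw [← h1]
  exact ⟨k, hk, rfl⟩

/-- **(F5) for the Fitting subgroup of `A`** -/
theorem exists_fit [Finite Q] (h : EPT A Γ) {N : Subgroup Q} (hNA : N ≤ A) (hNn : ∀ a ∈ A, ∀ k ∈ N, a * k * a⁻¹ ∈ N)
    (hNab : ∀ a ∈ N, ∀ b ∈ N, a * b = b * a) (hne : N ≠ ⊥) :
    ∃ (K : Subgroup Q) (r : ℕ), K ≤ A ∧ N ≤ K ∧ r.Prime ∧ (∀ a ∈ K, ∀ b ∈ K, a * b = b * a) ∧ (∀ a ∈ K, a ^ r = 1) ∧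
      (∀ a ∈ A, ∀ k ∈ K, a * k * a⁻¹ ∈ K) ∧ (∀ a ∈ A, (∀ k ∈ K, a * k = k * a) → a ∈ K) ∧
      ∀ x, x ∉ A → K ⊓ cj x A = ⊥ := by
  have hNn' : (N.subgroupOf A).Normal := by
    refine ⟨fun k hk a => ?_⟩
    rw [Subgroup.mem_subgroupOf] at hk ⊢
    exact hNn a a.2 _ hk
  have hNnil : Group.IsNilpotent (N.subgroupOf A) := by
    let _ : CommGroup (N.subgroupOf A) :=
      { (inferInstance : Group (N.subgroupOf A)) with
        mul_comm := fun a b => Subtype.ext (Subtype.ext (hNab _ a.2 _ b.2)) }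
    infer_instance
  have hle : N ≤ (Cfsg.fittingSubgroup A).map A.subtype := by
    have h1 := Lib.Cores.le_fittingSubgroup hNn' hNnil
    have h2 := Subgroup.map_mono (f := A.subtype) h1
    rwa [Subgroup.subgroupOf_map_subtype, inf_eq_left.2 hNA] at h2
  have hchar : (Cfsg.fittingSubgroup A).Characteristic := Lib.Cores.fittingSubgroup_characteristic
  have hinv := char_inv h hchar
  have hKA : (Cfsg.fittingSubgroup A).map A.subtype ≤ A := Subgroup.map_subtype_le _
  have hnil : Group.IsNilpotent ((Cfsg.fittingSubgroup A).map A.subtype) := by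
    have h1 : Group.IsNilpotent (Cfsg.fittingSubgroup A) := Lib.Cores.fittingSubgroup_isNilpotent
    have e2 := (Cfsg.fittingSubgroup A).equivMapOfInjective _ A.subtype_injective
    exact Group.nilpotent_of_surjective e2.toMonoidHom e2.surjective
  have hKne : (Cfsg.fittingSubgroup A).map A.subtype ≠ ⊥ := fun e => hne (le_bot_iff.1 (e ▸ hle))
  obtain ⟨h1, ⟨r, hr, h2⟩, h3, h4, -⟩ := h.nilp _ hKA hinv hnil hKne
  obtain ⟨x₀, hx₀⟩ := h.exists_notMem
  have hcj : ∀ a ∈ A, MulAut.conj a = 1 → a = 1 := by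
    intro a ha e
    have h5 : a ∈ (Cfsg.fittingSubgroup A).map A.subtype ⊓ cj x₀ A := by
      have hc : ∀ y : Q, a * y * a⁻¹ = y := fun y => by
        have := congrArg (fun τ : MulAut Q => τ y) e
        exact this
      have hc' : ∀ y : Q, a * y = y * a := fun y => by
        have := hc y
        rw [mul_inv_eq_iff_eq_mul] at this
        exact this
      constructor
      · have hz : (Subgroup.closure {(⟨a, ha⟩ : A)}).Normal := by
          refine ⟨fun k hk b => ?_⟩
          have hcc : ∀ k ∈ Subgroup.closure {(⟨a, ha⟩ : A)}, b * k * b⁻¹ = k := by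
            intro k hk
            rw [mul_inv_eq_iff_eq_mul]
            refine Subgroup.closure_induction (p := fun k _ => b * k = k * b) ?_ ?_ ?_ ?_ hk
            · intro k hk
              rw [Set.mem_singleton_iff] at hk
              subst hk
              exact Subtype.ext (hc' b).symm
            · rw [mul_one, one_mul]
            · intro k l _ _ h6 h7
              rw [← mul_assoc, h6, mul_assoc, h7, mul_assoc]
            · intro k _ h6
              rw [eq_inv_mul_iff_mul_eq, ← mul_assoc, ← h6, mul_assoc, mul_inv_cancel, mul_one]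
          rw [hcc k hk]
          exact hk
        have hn2 : Group.IsNilpotent (Subgroup.closure {(⟨a, ha⟩ : A)}) := by
          have hcm : IsMulCommutative (Subgroup.closure {(⟨a, ha⟩ : A)}) := Subgroup.isMulCommutative_closure (by
            intro x hx y hy
            rw [Set.mem_singleton_iff] at hx hy
            rw [hx, hy])
          let _ : CommGroup (Subgroup.closure {(⟨a, ha⟩ : A)}) :=
            { (inferInstance : Group (Subgroup.closure {(⟨a, ha⟩ : A)})) with
              mul_comm := fun a b => hcm.is_comm.comm a b }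
          infer_instance
        exact ⟨⟨a, ha⟩, Lib.Cores.le_fittingSubgroup hz hn2 (Subgroup.subset_closure rfl), rfl⟩
      · refine mem_cj.2 ?_
        have e6 : x₀⁻¹ * a * x₀ = a := by
          rw [mul_assoc, hc' x₀, inv_mul_cancel_left]
        rw [e6]
        exact ha
    rw [(h4 x₀ hx₀).1, mem_bot] at h5
    exact h5
  refine ⟨_, r, hKA, hle, hr, h1, h2, ?_, ?_, fun x hx => (h4 x hx).1⟩
  · intro a ha k hk
    exact hinv _ ((h.conj a).2 ha) k hk
  · intro a ha hc
    obtain ⟨b, hb, e⟩ := h3 _ ((h.conj a).2 ha) (by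
      intro k hk
      rw [MulAut.conj_apply, mul_inv_eq_iff_eq_mul]
      exact hc k hk)
    have h6 : b⁻¹ * a = 1 := by
      apply hcj _ (A.mul_mem (A.inv_mem (hKA hb)) ha)
      rw [map_mul, map_inv, e, inv_mul_cancel]
    rw [inv_mul_eq_one] at h6
    rw [← h6]
    exact hb

end fit

section proj

variable {Q : Type*} [Group Q] {F : Type*} [Field F] {n q : ℕ}

/-- a surjection `SU n F q → Q` with kernel the scalars -/
structure PJ (Q : Type*) [Group Q] (n : ℕ) (F : Type*) [Field F] (q : ℕ) where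
  φ : SU n F q →* Q
  surj : Function.Surjective φ
  ker : ∀ s, φ s = 1 ↔ ∃ c : F, ∀ v, act s v = c • v

/-- `SU n F q` as a subgroup of `GL` -/
def toGL (n : ℕ) (F : Type*) [Field F] (q : ℕ) : SU n F q →* GL (Fin n) F :=
  Matrix.SpecialLinearGroup.toGL.comp (SU n F q).subtype

theorem toGL_val (s : SU n F q) : (toGL n F q s : Matrix (Fin n) (Fin n) F) = mat s := rfl

theorem toGL_mem (s : SU n F q) : toGL n F q s ∈ Cfsg.GU n F q ⊓ Cfsg.Geo.specialLinear (Fin n) F := by
  refine Subgroup.mem_inf.2 ⟨(mem_GU_iff _).2 fun u v => herm_act s u v, ?_⟩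
  rw [Cfsg.Geo.specialLinear, MonoidHom.mem_ker]
  apply Units.ext
  exact det_mat s

/-- `SU n F q → GU ⊓ specialLinear` -/
def toS (n : ℕ) (F : Type*) [Field F] (q : ℕ) :
    SU n F q →* (Cfsg.GU n F q ⊓ Cfsg.Geo.specialLinear (Fin n) F : Subgroup (GL (Fin n) F)) :=
  (toGL n F q).codRestrict _ toGL_mem

theorem toS_surj (n : ℕ) (F : Type*) [Field F] (q : ℕ) : Function.Surjective (toS n F q) := by
  rintro ⟨g, hgd⟩
  obtain ⟨hg, hd⟩ := Subgroup.mem_inf.1 hgd
  have hd' : (g : Matrix (Fin n) (Fin n) F).det = 1 := by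
    rw [Cfsg.Geo.specialLinear, MonoidHom.mem_ker] at hd
    exact congrArg Units.val hd
  refine ⟨mkSU (g : Matrix (Fin n) (Fin n) F) hd' ((mem_GU_iff _).1 hg), ?_⟩
  apply Subtype.ext
  apply Units.ext
  rfl

theorem mem_scalars (s : SU n F q) (hn : 0 < n) :
    toGL n F q s ∈ Cfsg.Geo.scalars (Fin n) F ↔ ∃ c : F, ∀ v, act s v = c • v := by
  rw [Cfsg.Geo.mem_scalars_iff]
  constructor
  · rintro ⟨c, hc⟩
    refine ⟨c, fun v => ?_⟩
    rw [act_def, ← toGL_val, hc, smul_mulVec, one_mulVec]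
  · rintro ⟨c, hc⟩
    have hc0 : c ≠ 0 := by
      rintro rfl
      have h1 := hc (Pi.single ⟨0, hn⟩ 1)
      rw [zero_smul, act_eq_zero] at h1
      have h2 := congrFun h1 ⟨0, hn⟩
      rw [Pi.single_eq_same, Pi.zero_apply] at h2
      exact one_ne_zero h2
    refine ⟨Units.mk0 c hc0, ?_⟩
    apply Matrix.ext_of_mulVec_single
    intro i
    rw [toGL_val, ← act_def, hc, smul_mulVec, one_mulVec, Units.val_mk0]

/-- the surjection given by a model -/
def PJ.ofModel (m : Model Q (Cfsg.GU n F q ⊓ Cfsg.Geo.specialLinear (Fin n) F)) (hn : 0 < n) : PJ Q n F q where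
  φ := m.π.comp (toS n F q)
  surj := m.surj.comp (toS_surj n F q)
  ker s := by
    rw [← mem_scalars s hn]
    exact m.ker (toS n F q s)

theorem mem_iff (m : Model Q (Cfsg.GU n F q ⊓ Cfsg.Geo.specialLinear (Fin n) F)) (hn : 0 < n) {A : Subgroup Q}
    (s : SU n F q) : (PJ.ofModel m hn).φ s ∈ A ↔ toGL n F q s ∈ m.hat A :=
  (m.mem_hat_iff (toS n F q s)).symm

/-- maximality -/
theorem PJ.comap_eq (P : PJ Q n F q) {A : Subgroup Q} (hA : IsCoatom A) {M : Subgroup (SU n F q)}
    (hAM : A.comap P.φ ≤ M) (hM : M ≠ ⊤) : A.comap P.φ = M := by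
  have hker : P.φ.ker ≤ M := le_trans (by
    intro s hs
    rw [MonoidHom.mem_ker] at hs
    show P.φ s ∈ A
    rw [hs]
    exact A.one_mem) hAM
  have h1 : (M.map P.φ).comap P.φ = M := by
    rw [Subgroup.comap_map_eq, sup_eq_left.2 hker]
  have h2 : A ≤ M.map P.φ := by
    rw [← Subgroup.map_comap_eq_self_of_surjective P.surj A]
    exact Subgroup.map_mono hAM
  by_cases h3 : A = M.map P.φ
  · rw [h3, h1]
  · exfalso
    have h4 := hA.2 _ (lt_of_le_of_ne h2 h3)
    apply hM
    rw [← h1, h4, Subgroup.comap_top]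

end proj

end Cfsg.Agent.H380.EPU
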